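import Cfsg.Agent.Lib.Suzuki.Tori
import Cfsg.Agent.Lib.RankOne.SzBridge
import Cfsg.Agent.BSW7.Common

/-!
Transitive actions of the Suzuki groups with at most two fixed points.
-/

set_option autoImplicit false

namespace Cfsg.Agent.SzFixity69

open Cfsg.Agent.Suzuki

section General

variable {G : Type*} [Group G] {Ω : Type*} [Fintype Ω] [MulAction G Ω]

/-- The centralizer of an element fixing a point moves it to at most two places. -/
theorem centralizer_moves (hfix : ∀ g : G, g ≠ 1 → Nat.card (MulAction.fixedBy Ω g) ≤ 2)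
    {g : G} (hg : g ≠ 1) {α : Ω} (hgα : g • α = α) (N : Subgroup G)
    (hN : ∀ n ∈ N, g • n • α = n • α) :
    ((MulAction.stabilizer G α).subgroupOf N).index ≤ 2 := by
  classical
  rw [Subgroup.index]
  refine le_trans (Nat.card_le_card_of_injective (fun c => Quotient.liftOn' c
    (fun n : N => (⟨(n : G) • α, hN n n.2⟩ : MulAction.fixedBy Ω g)) ?_) ?_) (hfix g hg)
  · intro a b hab
    rw [QuotientGroup.leftRel_apply, Subgroup.mem_subgroupOf, MulAction.mem_stabilizer_iff,
      Subgroup.coe_mul, InvMemClass.coe_inv, mul_smul, inv_smul_eq_iff] at hab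
    exact Subtype.ext hab.symm
  · rintro ⟨a⟩ ⟨b⟩ hab
    refine Quotient.sound' ?_
    rw [QuotientGroup.leftRel_apply, Subgroup.mem_subgroupOf, MulAction.mem_stabilizer_iff,
      Subgroup.coe_mul, InvMemClass.coe_inv, mul_smul, inv_smul_eq_iff]
    exact (congrArg Subtype.val hab).symm

theorem smul_eq_of_commute {g n : G} {α : Ω} (hgα : g • α = α) (h : Commute g n) :
    g • n • α = n • α := by
  rw [smul_smul, h.eq, mul_smul, hgα]

/-- A subgroup of odd order with at most two cosets over a subgroup is contained in it. -/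
theorem le_of_index_le_two [Finite G] {A H : Subgroup G} (hA : Odd (Nat.card A))
    (h : (H.subgroupOf A).index ≤ 2) : A ≤ H := by
  have hpos : (H.subgroupOf A).index ≠ 0 := Subgroup.index_ne_zero_of_finite
  have hd := (H.subgroupOf A).index_dvd_card
  have h1 : (H.subgroupOf A).index = 1 := by
    rcases Nat.lt_or_ge (H.subgroupOf A).index 2 with h2 | h2
    · omega
    · exact absurd (hA.of_dvd_nat ((show (H.subgroupOf A).index = 2 by omega) ▸ hd)) (by decide)
  exact fun a ha => Subgroup.mem_subgroupOf.1 (Subgroup.index_eq_one.1 h1 ▸ Subgroup.mem_top (⟨a, ha⟩ : A))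

/-- A group with a self-normalising TI subgroup whose conjugates cover it. -/
theorem eq_of_covering [Finite G] {H A : Subgroup G} (hAH : A ≤ H) (hA3 : 3 ≤ Nat.card A)
    (hnorm : ∀ h ∈ H, h ∈ Subgroup.normalizer (A : Set G) → h ∈ A)
    (hTI : ∀ g a : G, a ∈ A → a ≠ 1 → g * a * g⁻¹ ∈ A → g ∈ Subgroup.normalizer (A : Set G))
    (hcov : ∀ h ∈ H, h ≠ 1 → ∃ c : G, c * h * c⁻¹ ∈ A ∧
      (∀ a ∈ A, c⁻¹ * a * c ∈ H) ∧
      ∀ k ∈ H, c * k * c⁻¹ ∈ Subgroup.normalizer (A : Set G) → c * k * c⁻¹ ∈ A) :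
    H = A := by
  classical
  haveI := Fintype.ofFinite H
  -- the count for one torus of `H`
  have count : ∀ c : G, (∀ a ∈ A, c⁻¹ * a * c ∈ H) →
      (∀ k ∈ H, c * k * c⁻¹ ∈ Subgroup.normalizer (A : Set G) → c * k * c⁻¹ ∈ A) →
      Nat.card {h : H // h ≠ 1 ∧ ∃ x : H, c * (x * h * x⁻¹ : H) * c⁻¹ ∈ A} * Nat.card A =
        Nat.card H * (Nat.card A - 1) := by
    intro c hcA hcN
    set B : Subgroup H := (A.comap (MulAut.conj c).toMonoidHom).subgroupOf H
    have hmem : ∀ x : H, x ∈ B ↔ c * (x : G) * c⁻¹ ∈ A := fun x => Iff.rfl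
    have hBcard : Nat.card B = Nat.card A := by
      refine Nat.card_congr
        { toFun := fun x => ⟨c * ((x : H) : G) * c⁻¹, (hmem _).1 x.2⟩
          invFun := fun a => ⟨⟨c⁻¹ * a * c, hcA a a.2⟩, (hmem _).2 (by
            show c * (c⁻¹ * a * c) * c⁻¹ ∈ A
            rw [show c * (c⁻¹ * (a : G) * c) * c⁻¹ = a by group]
            exact a.2)⟩
          left_inv := fun x => Subtype.ext (Subtype.ext (by
            show c⁻¹ * (c * ((x : H) : G) * c⁻¹) * c = x
            group))
          right_inv := fun a => Subtype.ext (by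
            show c * (c⁻¹ * a * c) * c⁻¹ = a
            group) }
    have hBti : ∀ x a : H, a ∈ B → a ≠ 1 → x * a * x⁻¹ ∈ B → x ∈ B := by
      intro x a ha ha1 hxa
      refine (hmem x).2 (hcN x x.2 (hTI _ (c * a * c⁻¹) ((hmem a).1 ha) (fun e => ha1 ?_) ?_))
      · exact Subtype.ext (conj_eq_one_iff.1 e)
      · have h1 := (hmem _).1 hxa
        rw [Subgroup.coe_mul, Subgroup.coe_mul, InvMemClass.coe_inv] at h1
        rwa [show c * (x : G) * c⁻¹ * (c * a * c⁻¹) * (c * x * c⁻¹)⁻¹
          = c * ((x : G) * a * (x : G)⁻¹) * c⁻¹ by group]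
    have hBN : Subgroup.normalizer (B : Set H) = B := by
      refine le_antisymm (fun x hx => ?_) Subgroup.le_normalizer
      have : Nontrivial B := Finite.one_lt_card_iff_nontrivial.1 (by omega)
      obtain ⟨⟨a, ha⟩, ha1⟩ := exists_ne (1 : B)
      exact hBti x a ha (fun e => ha1 (Subtype.ext e)) ((Subgroup.mem_normalizer_iff.1 hx a).1 ha)
    have := BSW7.card_conjugates (A := B) fun x a ha ha1 hxa =>
      Subgroup.le_normalizer (hBti x a ha ha1 hxa)
    rw [hBN, hBcard] at this
    exact this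
  have hone : ∀ a ∈ A, (1 : G)⁻¹ * a * 1 ∈ H := fun a ha => by simpa using hAH ha
  have hN1 : ∀ k ∈ H, (1 : G) * k * 1⁻¹ ∈ Subgroup.normalizer (A : Set G) →
      (1 : G) * k * 1⁻¹ ∈ A := fun k hk h => by simpa using hnorm k hk (by simpa using h)
  have h1 := count 1 hone hN1
  -- every element is conjugate into `A` inside `H`
  have hall : ∀ h : H, h ≠ 1 → ∃ x : H, (1 : G) * (x * h * x⁻¹ : H) * 1⁻¹ ∈ A := by
    intro h hh1
    by_contra hno
    obtain ⟨c, hc, hcA, hcN⟩ := hcov h h.2 fun e => hh1 (Subtype.ext e)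
    have h2 := count c hcA hcN
    set P₁ := fun k : H => k ≠ 1 ∧ ∃ x : H, (1 : G) * (x * k * x⁻¹ : H) * 1⁻¹ ∈ A
    set P₂ := fun k : H => k ≠ 1 ∧ ∃ x : H, c * (x * k * x⁻¹ : H) * c⁻¹ ∈ A
    have hdisj : ∀ k : H, P₁ k → ¬ P₂ k := by
      rintro k ⟨hk1, x, hx⟩ ⟨-, y, hy⟩
      -- the two tori coincide up to conjugation in `H`
      refine hno ⟨x * y⁻¹, ?_⟩
      set g := (x : G) * (y : G)⁻¹ * c⁻¹ with hg
      have hgN : g ∈ Subgroup.normalizer (A : Set G) := by
        refine hTI g (c * ((y : G) * k * (y : G)⁻¹) * c⁻¹) (by simpa using hy) ?_ ?_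
        · intro e
          exact hk1 (Subtype.ext (conj_eq_one_iff.1 (conj_eq_one_iff.1 e)))
        · rw [hg, show (x : G) * (y : G)⁻¹ * c⁻¹ * (c * ((y : G) * k * (y : G)⁻¹) * c⁻¹) *
            ((x : G) * (y : G)⁻¹ * c⁻¹)⁻¹ = (x : G) * k * (x : G)⁻¹ by group]
          simpa using hx
      have h3 := (Subgroup.mem_normalizer_iff.1 hgN (c * h * c⁻¹)).1 hc
      rw [hg] at h3
      simp only [Subgroup.coe_mul, InvMemClass.coe_inv, one_mul, inv_one, mul_one]
      rw [show (x : G) * (y : G)⁻¹ * (h : G) * ((x : G) * (y : G)⁻¹)⁻¹ = (x : G) * (y : G)⁻¹ * c⁻¹ *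
        (c * h * c⁻¹) * ((x : G) * (y : G)⁻¹ * c⁻¹)⁻¹ by group]
      exact h3
    have hle : Nat.card {k : H // P₁ k} + Nat.card {k : H // P₂ k} ≤ Nat.card H - 1 := by
      rw [Nat.card_eq_fintype_card, Nat.card_eq_fintype_card, Fintype.card_subtype,
        Fintype.card_subtype, ← Finset.card_union_of_disjoint (Finset.disjoint_filter.2 fun k _ => hdisj k),
        Nat.card_eq_fintype_card, ← Finset.card_univ,
        ← Finset.card_erase_of_mem (Finset.mem_univ (1 : H))]
      refine Finset.card_le_card fun k hk => ?_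
      simp only [Finset.mem_union, Finset.mem_filter, Finset.mem_univ, true_and] at hk
      rcases hk with hk | hk <;> exact Finset.mem_erase.2 ⟨hk.1, Finset.mem_univ _⟩
    have hH : 0 < Nat.card H := Nat.card_pos
    obtain ⟨a, ha⟩ : ∃ a, Nat.card A = a + 1 := ⟨Nat.card A - 1, by omega⟩
    rw [ha, Nat.add_sub_cancel] at h1 h2
    have e1 : Nat.card {k : H // P₁ k} * (a + 1) = Nat.card H * a := h1
    have e2 : Nat.card {k : H // P₂ k} * (a + 1) = Nat.card H * a := h2
    obtain ⟨b, hb⟩ : ∃ b, Nat.card H = b + 1 := ⟨Nat.card H - 1, by omega⟩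
    rw [hb, Nat.add_sub_cancel] at hle
    rw [hb] at e1 e2
    have h4 := Nat.mul_le_mul_right (a + 1) hle
    rw [add_mul, e1, e2] at h4
    have : 2 ≤ a := by omega
    nlinarith
  have h2 : Nat.card {h : H // h ≠ 1 ∧ ∃ x : H, (1 : G) * (x * h * x⁻¹ : H) * 1⁻¹ ∈ A}
      = Nat.card H - 1 := by
    rw [Nat.card_congr (Equiv.subtypeEquivRight fun h => (and_iff_left_of_imp (hall h))),
      Nat.card_eq_fintype_card, Fintype.card_subtype_compl, Fintype.card_subtype_eq,
      Nat.card_eq_fintype_card]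
  rw [h2] at h1
  obtain ⟨a, ha⟩ : ∃ a, Nat.card A = a + 1 := ⟨Nat.card A - 1, by omega⟩
  obtain ⟨b, hb⟩ : ∃ b, Nat.card H = b + 1 :=
    ⟨Nat.card H - 1, by have := Nat.card_pos (α := H); omega⟩
  rw [ha, hb, Nat.add_sub_cancel, Nat.add_sub_cancel] at h1
  refine (Subgroup.eq_of_le_of_card_ge hAH ?_).symm
  rw [ha, hb]
  nlinarith

end General

variable {F : Type*} [Field F] [Fintype F] {m : ℕ} (hF : Fintype.card F = 2 ^ (2 * m + 1))
include hF

/-- `k ↦ k σ(k)` is surjective. -/
theorem exists_mul_sig (b : F) : ∃ k : F, k * sig m k = b := by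
  refine (Finite.injective_iff_surjective.1 fun x y e => ?_ : Function.Surjective fun k : F =>
    k * sig m k) b
  by_cases hy : y = 0
  · subst hy
    rcases mul_eq_zero.1 (e.trans (zero_mul _)) with h | h
    · exact h
    · exact sig_eq_zero.1 h
  · by_cases hx : x = 0
    · subst hx
      rcases mul_eq_zero.1 ((e.symm).trans (zero_mul _)) with h | h
      · exact h.symm
      · exact (sig_eq_zero.1 h).symm
    · refine eq_of_div_eq_one ?_
      refine eq_one_of_mul_sig hF (div_ne_zero hx hy) ?_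
      rw [div_eq_mul_inv, sig_mul, sig_inv]
      have h1 := sig_ne_zero (m := m) hy
      field_simp
      linear_combination e

variable {Ω : Type*} [Fintype Ω] [MulAction (Cfsg.Sz F m) Ω]

/-- A point fixed by a central involution of the standard Sylow subgroup is fixed by the Borel
subgroup. -/
theorem stab_of_involution (hm : 1 ≤ m)
    (hfix : ∀ g : Cfsg.Sz F m, g ≠ 1 → Nat.card (MulAction.fixedBy Ω g) ≤ 2)
    {α : Ω} {b : F} (hb : b ≠ 0) (hbα : U hF 0 b • α = α) :
    MulAction.stabilizer (Cfsg.Sz F m) (Cfsg.suzukiPointInfinity F) ≤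
      MulAction.stabilizer (Cfsg.Sz F m) α := by
  classical
  set H := MulAction.stabilizer (Cfsg.Sz F m) α with hH
  have hne : ∀ {a b : F}, a ≠ 0 ∨ b ≠ 0 → U hF a b ≠ 1 := fun {a b} h e => by
    rw [← U_zero hF] at e
    obtain ⟨h1, h2⟩ := U_inj hF e
    rcases h with h | h
    · exact h h1
    · exact h h2
  have hidx : (H.subgroupOf (USub hF)).index ≤ 2 := by
    refine centralizer_moves hfix (hne (Or.inr hb)) hbα _ fun n hn => ?_
    obtain ⟨c, d, rfl⟩ := hn
    refine smul_eq_of_commute hbα ?_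
    show _ = _
    rw [U_mul, U_mul, sig_zero, zero_add, add_zero, zero_mul, mul_zero, add_zero, add_zero,
      add_comm b d]
  have hsq : ∀ a c : F, U hF 0 (sig m a * a) ∈ H := by
    intro a c
    have h1 : U hF a c * U hF a c = U hF 0 (sig m a * a) := by
      rw [U_mul, add_self hF, add_self hF, zero_add]
    rw [← h1]
    by_cases h2 : (H.subgroupOf (USub hF)).index = 2
    · exact Subgroup.mem_subgroupOf.1 (Subgroup.mul_self_mem_of_index_two h2
        ⟨U hF a c, U_mem_USub hF a c⟩)
    · have h3 : (H.subgroupOf (USub hF)).index = 1 := by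
        have := Subgroup.index_ne_zero_of_finite (H := H.subgroupOf (USub hF))
        omega
      exact Subgroup.mem_subgroupOf.1 (Subgroup.index_eq_one.1 h3 ▸ Subgroup.mem_top
        (⟨U hF a c * U hF a c, mul_mem (U_mem_USub hF a c) (U_mem_USub hF a c)⟩ : USub hF))
  have hZ : ∀ d : F, U hF 0 d ∈ H := fun d => by
    obtain ⟨k, hk⟩ := exists_mul_sig hF d
    rw [← hk, mul_comm]
    exact hsq k 0
  -- the torus
  have hT : ∀ k : Fˣ, T hF k ∈ H := by
    have hle : (THom hF).range ≤ H := by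
      refine le_of_index_le_two ?_ (centralizer_moves hfix (hne (Or.inr hb)) hbα _ ?_)
      · rw [card_range_T]
        obtain ⟨h8, hev⟩ := q_facts hF hm
        rcases hev with ⟨j, hj⟩
        exact ⟨j - 1, by omega⟩
      · rintro _ ⟨k, rfl⟩
        have h1 : (T hF k)⁻¹ * U hF 0 b * T hF k ∈ H := by
          have := T_conj_U hF k⁻¹ 0 b
          rw [T_inv, inv_inv, mul_zero] at this
          rw [this]
          exact hZ _
        have h2 : ((T hF k)⁻¹ * U hF 0 b * T hF k) • α = α := h1
        show U hF 0 b • T hF k • α = T hF k • α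
        rw [mul_smul, mul_smul, inv_smul_eq_iff] at h2
        exact h2
    exact fun k => hle ⟨k, rfl⟩
  -- the first coordinates of `H ∩ U`
  have hU : ∀ a c : F, U hF a c ∈ H := by
    obtain ⟨h8, -⟩ := q_facts hF hm
    have hscale : ∀ (k : Fˣ) {a c : F}, U hF a c ∈ H → ∃ c', U hF (k * a) c' ∈ H := fun k a c h =>
      ⟨_, T_conj_U hF k a c ▸ mul_mem (mul_mem (hT k) h) (inv_mem (hT k))⟩
    obtain ⟨a₀, c₀, ha₀, ha₀H⟩ : ∃ a₀ c₀, a₀ ≠ 0 ∧ U hF a₀ c₀ ∈ H := by
      by_contra hno
      push Not at hno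
      have hle : H.subgroupOf (USub hF) ≤ (ZSub hF).subgroupOf (USub hF) := by
        rintro ⟨_, a, c, rfl⟩ hx
        by_cases ha : a = 0
        · exact ⟨c, by subst ha; rfl⟩
        · exact absurd (Subgroup.mem_subgroupOf.1 hx) (hno a c ha)
      have h1 := (H.subgroupOf (USub hF)).card_mul_index
      have h2 : Nat.card (H.subgroupOf (USub hF)) ≤ 2 ^ (2 * m + 1) := by
        refine (Nat.le_of_dvd Nat.card_pos (Subgroup.card_dvd_of_le hle)).trans ?_
        rw [Nat.card_congr (Subgroup.subgroupOfEquivOfLe ?_).toEquiv, card_ZSub hF]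
        rintro _ ⟨c, rfl⟩
        exact U_mem_USub hF 0 c
      rw [card_USub hF] at h1
      have h3 : 2 ^ (2 * m + 1) = Fintype.card F := hF.symm
      rw [h3] at h1 h2
      nlinarith
    intro a c
    by_cases ha : a = 0
    · subst ha; exact hZ c
    obtain ⟨c', hc'⟩ := hscale (Units.mk0 (a * a₀⁻¹) (mul_ne_zero ha (inv_ne_zero ha₀))) ha₀H
    rw [Units.val_mk0, inv_mul_cancel_right₀ ha₀] at hc'
    have := mul_mem hc' (hZ (c - c'))
    rwa [U_mul, add_zero, mul_zero, add_zero, add_sub_cancel] at this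
  intro g hg
  obtain ⟨⟨⟨a, c⟩, k⟩, hp⟩ := (stabEquiv hF hm).surjective ⟨g, hg⟩
  have hge : U hF a c * T hF k = g := congrArg Subtype.val hp
  exact hge ▸ mul_mem (hU a c) (hT k)

variable [FaithfulSMul (Cfsg.Sz F m) Ω]

theorem result (hm : 1 ≤ m) (htr : MulAction.IsPretransitive (Cfsg.Sz F m) Ω)
    (hfix : ∀ g : Cfsg.Sz F m, g ≠ 1 → Nat.card (MulAction.fixedBy Ω g) ≤ 2)
    (hex : ∃ g : Cfsg.Sz F m, g ≠ 1 ∧ Nat.card (MulAction.fixedBy Ω g) = 2) :
    (Fintype.card Ω = Fintype.card F ^ 2 + 1 ∧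
      MulAction.IsMultiplyPretransitive (Cfsg.Sz F m) Ω 2) ∨
    (Fintype.card Ω = Fintype.card F ^ 2 * (Fintype.card F ^ 2 + 1) ∧
      ∀ α : Ω, Nat.card (MulAction.stabilizer (Cfsg.Sz F m) α) = Fintype.card F - 1) := by
  classical
  obtain ⟨h8, hev⟩ := q_facts hF hm
  obtain ⟨g₂, hg₂1, hg₂⟩ := hex
  have hcardG : Nat.card (Cfsg.Sz F m) =
      Fintype.card F ^ 2 * (Fintype.card F ^ 2 + 1) * (Fintype.card F - 1) := by
    rw [card_Sz hF hm, ← hF]
  have hΩ : ∀ α : Ω, Nat.card (Cfsg.Sz F m) =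
      Nat.card (MulAction.stabilizer (Cfsg.Sz F m) α) * Fintype.card Ω := fun α => by
    rw [← (MulAction.stabilizer (Cfsg.Sz F m) α).card_mul_index,
      MulAction.index_stabilizer_of_transitive, Nat.card_eq_fintype_card (α := Ω)]
  have hΩ2 : 2 ≤ Fintype.card Ω := by
    rw [← hg₂, ← Nat.card_eq_fintype_card]
    exact Nat.card_le_card_of_injective _ Subtype.val_injective
  by_cases hinv : ∃ (α : Ω) (b : F), b ≠ 0 ∧ U hF 0 b • α = α
  · left
    obtain ⟨α, b, hb, hbα⟩ := hinv
    have hle := stab_of_involution hF hm hfix hb hbα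
    set B := MulAction.stabilizer (Cfsg.Sz F m) (Cfsg.suzukiPointInfinity F)
    set H := MulAction.stabilizer (Cfsg.Sz F m) α
    have hHB : B = H := by
      refine le_antisymm hle fun h hh => ?_
      by_contra hhB
      -- then `H` is transitive on the ovoid
      have h2 := two_pretransitive hF (m := m)
      have hsurj : ∀ p ∈ Cfsg.suzukiOvoid F m, ∃ x ∈ H, x • Cfsg.suzukiPointInfinity F = p := by
        intro p hp
        by_cases hpi : p = Cfsg.suzukiPointInfinity F
        · exact ⟨1, one_mem H, by rw [one_smul, hpi]⟩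
        obtain ⟨g, hg⟩ := MulAction.is_two_pretransitive_iff.1 h2
          (show (⟨_, inf_mem_ovoid⟩ : Cfsg.suzukiOvoid F m) ≠
              ⟨h • Cfsg.suzukiPointInfinity F, smul_mem_ovoid h inf_mem_ovoid⟩ from
            fun e => hhB (MulAction.mem_stabilizer_iff.2 (congrArg Subtype.val e).symm))
          (show (⟨_, inf_mem_ovoid⟩ : Cfsg.suzukiOvoid F m) ≠ ⟨p, hp⟩ from
            fun e => hpi (congrArg Subtype.val e).symm)
        have hgB : g ∈ B := congrArg Subtype.val hg.1
        refine ⟨g * h, mul_mem (hle hgB) hh, ?_⟩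
        rw [mul_smul]
        exact congrArg Subtype.val hg.2
      have htop : H = ⊤ := by
        refine eq_top_iff.2 fun g _ => ?_
        obtain ⟨x, hx, hxe⟩ := hsurj _ (smul_mem_ovoid g inf_mem_ovoid)
        have : x⁻¹ * g ∈ H := hle (MulAction.mem_stabilizer_iff.2 (by
          rw [mul_smul, ← hxe, inv_smul_smul]))
        simpa using mul_mem hx this
      have h3 := hΩ α
      change Nat.card (Cfsg.Sz F m) = Nat.card H * _ at h3
      rw [htop, Subgroup.card_top] at h3
      have : 0 < Nat.card (Cfsg.Sz F m) := Nat.card_pos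
      nlinarith
    have hcardB : Nat.card B = Fintype.card F ^ 2 * (Fintype.card F - 1) := by
      rw [← Nat.card_congr (stabEquiv hF hm), Nat.card_prod, Nat.card_prod, Nat.card_units,
        Nat.card_eq_fintype_card, pow_two]
    refine ⟨?_, ?_⟩
    · have h3 := hΩ α
      change Nat.card (Cfsg.Sz F m) = Nat.card H * _ at h3
      rw [← hHB, hcardB, hcardG] at h3
      have h1 : 0 < Fintype.card F - 1 := by omega
      exact Nat.eq_of_mul_eq_mul_left
        (show 0 < Fintype.card F ^ 2 * (Fintype.card F - 1) by positivity)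
        (h3.symm.trans (by ring))
    · rw [MulAction.is_two_pretransitive_iff]
      intro a b' c d hab hcd
      have hmap : ∀ x : Ω, ∃ g : Cfsg.Sz F m, g • α = x := fun x => MulAction.exists_smul_eq _ α x
      choose g hg using hmap
      set f : Ω → Cfsg.suzukiOvoid F m := fun x =>
        ⟨g x • Cfsg.suzukiPointInfinity F, smul_mem_ovoid _ inf_mem_ovoid⟩
      have hfeq : ∀ (k : Cfsg.Sz F m) (x : Ω), f (k • x) = k • f x := by
        intro k x
        have h1 : (k * g x)⁻¹ * g (k • x) ∈ B := by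
          rw [hHB]
          refine MulAction.mem_stabilizer_iff.2 ?_
          rw [mul_smul, hg, inv_smul_eq_iff, mul_smul, hg]
        refine Subtype.ext ?_
        show g (k • x) • Cfsg.suzukiPointInfinity F = k • g x • Cfsg.suzukiPointInfinity F
        rw [← mul_smul, ← inv_smul_eq_iff, smul_smul]
        exact h1
      have hfinj : ∀ x y : Ω, f x = f y → x = y := by
        intro x y e
        have e' : g x • Cfsg.suzukiPointInfinity F = g y • Cfsg.suzukiPointInfinity F :=
          congrArg Subtype.val e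
        have h1 : (g y)⁻¹ * g x ∈ B := MulAction.mem_stabilizer_iff.2 (by
          rw [mul_smul, inv_smul_eq_iff, e'])
        rw [hHB, MulAction.mem_stabilizer_iff, mul_smul, inv_smul_eq_iff, hg, hg] at h1
        exact h1
      obtain ⟨k, hk1, hk2⟩ := MulAction.is_two_pretransitive_iff.1 (two_pretransitive hF (m := m))
        (show f a ≠ f b' from fun e => hab (hfinj _ _ e))
        (show f c ≠ f d from fun e => hcd (hfinj _ _ e))
      exact ⟨k, hfinj _ _ (by rw [hfeq, hk1]), hfinj _ _ (by rw [hfeq, hk2])⟩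
  right
  push Not at hinv
  -- every element fixing a point is conjugate into the torus
  have hclass : ∀ (α : Ω) (g : Cfsg.Sz F m), g ≠ 1 → g • α = α →
      ∃ k h, k ≠ 1 ∧ g = h * T hF k * h⁻¹ := by
    intro α g hg1 hgα
    rcases classify hF hm hg1 with hf | ⟨a, c, h, hu, rfl⟩ | hT
    · exfalso
      set A := Subgroup.centralizer {g} with hA
      have hAle : A ≤ MulAction.stabilizer (Cfsg.Sz F m) α := by
        refine le_of_index_le_two ?_ (centralizer_moves hfix hg1 hgα A fun n hn =>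
          smul_eq_of_commute hgα (Subgroup.mem_centralizer_singleton_iff.1 hn).symm)
        refine Odd.of_dvd_nat ?_ (card_torus_dvd hF hm hf)
        exact (Nat.even_pow.2 ⟨hev, two_ne_zero⟩).add_one
      obtain ⟨g₁, g₃, hg₁, hg₃, hc₁, hc₃, hN₁, hN₃⟩ := torus_orders hF hm
      have hgA : g ∈ A := Subgroup.mem_centralizer_singleton_iff.2 rfl
      obtain ⟨p, hp, hpA⟩ := Nat.exists_prime_and_dvd (show Nat.card A ≠ 1 from fun e => hg1 (by
        have := Subgroup.card_eq_one.1 e ▸ hgA
        exact Subgroup.mem_bot.1 this))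
      have hN4 : Nat.card (Subgroup.normalizer (A : Set (Cfsg.Sz F m))) = 4 * Nat.card A := by
        have h1 : p ∣ (Fintype.card F + 2 ^ (m + 1) + 1) * (Fintype.card F - 2 ^ (m + 1) + 1) := by
          refine (hpA.trans (card_torus_dvd hF hm hf)).trans (dvd_of_eq ?_)
          have hle : 2 ^ (m + 1) ≤ Fintype.card F := by
            rw [hF]; exact Nat.pow_le_pow_right two_pos (by omega)
          have hsq : 2 ^ (m + 1) * 2 ^ (m + 1) = 2 * Fintype.card F := by
            rw [hF, ← pow_add, ← pow_succ']; congr 1; omega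
          zify [hle] at hsq ⊢
          linear_combination hsq
        rcases hp.dvd_mul.1 h1 with h1 | h1
        · obtain ⟨h, hh⟩ := torus_conj hF hm hg₁ hf hp (hc₁ ▸ h1) hpA
          rw [hA, hh, ← Subgroup.map_equiv_normalizer_eq _ (MulAut.conj h),
            Subgroup.card_map_of_injective (MulAut.conj h).injective,
            Subgroup.card_map_of_injective (MulAut.conj h).injective, hN₁]
        · obtain ⟨h, hh⟩ := torus_conj hF hm hg₃ hf hp (hc₃ ▸ h1) hpA
          rw [hA, hh, ← Subgroup.map_equiv_normalizer_eq _ (MulAut.conj h),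
            Subgroup.card_map_of_injective (MulAut.conj h).injective,
            Subgroup.card_map_of_injective (MulAut.conj h).injective, hN₃]
      set N := Subgroup.normalizer (A : Set (Cfsg.Sz F m))
      have hidx : ((MulAction.stabilizer (Cfsg.Sz F m) α).subgroupOf N).index ≤ 2 :=
        centralizer_moves hfix hg1 hgα N fun n hn => by
          have h2 : n⁻¹ * g * n ∈ A := by
            have := (Subgroup.mem_normalizer_iff.1 (inv_mem hn) g).1 hgA
            simpa using this
          have h3 : (n⁻¹ * g * n) • α = α := hAle h2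
          rwa [mul_smul, mul_smul, inv_smul_eq_iff] at h3
      have heven : 2 ∣ Nat.card ((MulAction.stabilizer (Cfsg.Sz F m) α).subgroupOf N) := by
        have h1 := ((MulAction.stabilizer (Cfsg.Sz F m) α).subgroupOf N).card_mul_index
        rw [hN4] at h1
        rcases Nat.lt_or_ge ((MulAction.stabilizer (Cfsg.Sz F m) α).subgroupOf N).index 2 with h2 | h2
        · have := Subgroup.index_ne_zero_of_finite (H := (MulAction.stabilizer (Cfsg.Sz F m) α).subgroupOf N)
          rw [show ((MulAction.stabilizer (Cfsg.Sz F m) α).subgroupOf N).index = 1 by omega, mul_one] at h1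
          exact ⟨2 * Nat.card A, by rw [h1]; ring⟩
        · rw [show ((MulAction.stabilizer (Cfsg.Sz F m) α).subgroupOf N).index = 2 by omega] at h1
          exact ⟨Nat.card A, by omega⟩
      have := Fact.mk Nat.prime_two
      obtain ⟨u, hu⟩ := exists_prime_orderOf_dvd_card' _ heven
      rw [← Subgroup.orderOf_coe, ← Subgroup.orderOf_coe] at hu
      have huα : ((u : N) : Cfsg.Sz F m) • α = α := Subgroup.mem_subgroupOf.1 u.2
      obtain ⟨P, hP⟩ := (IsPGroup.of_card (n := 1) (by rw [Nat.card_zpowers, hu, pow_one]) :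
        IsPGroup 2 (Subgroup.zpowers ((u : N) : Cfsg.Sz F m))).exists_le_sylow
      obtain ⟨Q, hQ⟩ := (isPGroup_USub hF).exists_le_sylow
      obtain ⟨x, hx⟩ := MulAction.exists_smul_eq (Cfsg.Sz F m) P Q
      have hQU : (Q : Subgroup (Cfsg.Sz F m)) = USub hF := by
        refine (Subgroup.eq_of_le_of_card_ge hQ ?_).symm
        rw [(sylow_two hF hm Q).1, card_USub hF]
      have hmem : x * ((u : N) : Cfsg.Sz F m) * x⁻¹ ∈ USub hF := by
        rw [← hQU, ← hx, Sylow.coe_subgroup_smul]
        exact ⟨_, hP (Subgroup.mem_zpowers _), rfl⟩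
      obtain ⟨a, c, hac⟩ := hmem
      have hsq : U hF a c * U hF a c = 1 := by
        rw [← hac, show ∀ y : Cfsg.Sz F m, x * y * x⁻¹ * (x * y * x⁻¹) = x * (y * y) * x⁻¹ from
          fun y => by group, ← sq, orderOf_dvd_iff_pow_eq_one.1 hu.dvd, mul_one, mul_inv_cancel]
      rw [U_mul, add_self hF, add_self hF, zero_add, ← U_zero hF] at hsq
      have ha : a = 0 := by
        rcases mul_eq_zero.1 (U_inj hF hsq).2 with e | e
        · exact sig_eq_zero.1 e
        · exact e
      subst ha
      refine hinv (x • α) c ?_ ?_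
      · rintro rfl
        rw [U_zero, conj_eq_one_iff] at hac
        rw [hac, orderOf_one] at hu
        omega
      · rw [← hac, mul_smul, mul_smul, inv_smul_smul, huα]
    · exfalso
      have hα : U hF a c • h⁻¹ • α = h⁻¹ • α := by
        rw [mul_smul, mul_smul] at hgα
        exact (inv_smul_eq_iff.2 hgα.symm).symm
      by_cases ha : a = 0
      · subst ha
        exact hinv _ c (fun e => hu (e ▸ U_zero hF)) hα
      · refine hinv (h⁻¹ • α) (sig m a * a) (mul_ne_zero (sig_ne_zero ha) ha) ?_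
        rw [show U hF 0 (sig m a * a) = U hF a c * U hF a c by
          rw [U_mul, add_self hF, add_self hF, zero_add], mul_smul, hα, hα]
    · exact hT
  have hA : ∀ α : Ω, Nat.card (MulAction.stabilizer (Cfsg.Sz F m) α) = Fintype.card F - 1 := by
    intro α
    set H := MulAction.stabilizer (Cfsg.Sz F m) α with hHdef
    obtain ⟨g₀, hg₀, hg₀1⟩ : ∃ g ∈ H, g ≠ 1 := by
      haveI : Nonempty (MulAction.fixedBy Ω g₂) := Nat.card_pos_iff.1 (by omega) |>.1
      obtain ⟨β, hβ⟩ := (inferInstance : Nonempty (MulAction.fixedBy Ω g₂))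
      obtain ⟨x, rfl⟩ := MulAction.exists_smul_eq (Cfsg.Sz F m) α β
      refine ⟨x⁻¹ * g₂ * x, ?_, fun e => hg₂1 ?_⟩
      · rw [MulAction.mem_stabilizer_iff, mul_smul, mul_smul, inv_smul_eq_iff]
        exact hβ
      · rw [show g₂ = x * (x⁻¹ * g₂ * x) * x⁻¹ by group, e, mul_one, mul_inv_cancel]
    set R := (THom hF).range with hR
    have hRodd : Odd (Nat.card R) := by
      rw [card_range_T]
      rcases hev with ⟨j, hj⟩
      exact ⟨j - 1, by omega⟩
    have hHodd : ∀ g ∈ H, Odd (orderOf g) := by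
      intro g hg
      rcases eq_or_ne g 1 with rfl | hg1
      · simp
      obtain ⟨k, h, -, rfl⟩ := hclass α g hg1 hg
      rw [← MulAut.conj_apply, MulEquiv.orderOf_eq]
      exact hRodd.of_dvd_nat (Subgroup.orderOf_dvd_natCard R ⟨k, rfl⟩)
    -- a conjugate of the torus inside the stabilizer, self-normalising there
    have key : ∀ g ∈ H, g ≠ 1 → ∃ c : Cfsg.Sz F m, c * g * c⁻¹ ∈ R ∧
        (∀ a ∈ R, c⁻¹ * a * c ∈ H) ∧
        ∀ k ∈ H, c * k * c⁻¹ ∈ Subgroup.normalizer (R : Set (Cfsg.Sz F m)) → c * k * c⁻¹ ∈ R := by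
      intro g hg hg1
      obtain ⟨k, h, hk, rfl⟩ := hclass α g hg1 hg
      refine ⟨h⁻¹, by rw [inv_inv, show h⁻¹ * (h * T hF k * h⁻¹) * h = T hF k by group]; exact ⟨k, rfl⟩,
        fun a ha => ?_, fun x hx hxN => ?_⟩
      · rw [inv_inv]
        have hle : R.map (MulAut.conj h).toMonoidHom ≤ H := by
          refine le_of_index_le_two ?_ (centralizer_moves hfix hg1 hg _ ?_)
          · rwa [Subgroup.card_map_of_injective (MulAut.conj h).injective]
          · rintro _ ⟨_, ⟨l, rfl⟩, rfl⟩
            refine smul_eq_of_commute hg ?_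
            have h1 : Commute (T hF k) (T hF l) := by
              show _ = _
              rw [← T_mul, ← T_mul, mul_comm]
            exact h1.map (MulAut.conj h).toMonoidHom
        exact hle ⟨a, ha, rfl⟩
      · -- odd order in a group of order `2 |R|`
        set y := h⁻¹ * x * h⁻¹⁻¹ with hy
        set N := Subgroup.normalizer (R : Set (Cfsg.Sz F m))
        have hNc : Nat.card N = 2 * Nat.card R := by
          rw [card_normalizer_T hF hm, card_range_T]
        have hidx : (R.subgroupOf N).index = 2 := by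
          have h1 := (R.subgroupOf N).card_mul_index
          rw [Nat.card_congr (Subgroup.subgroupOfEquivOfLe Subgroup.le_normalizer).toEquiv, hNc,
            mul_comm 2] at h1
          exact Nat.eq_of_mul_eq_mul_left Nat.card_pos h1
        have hy2 : y * y ∈ R :=
          Subgroup.mem_subgroupOf.1 (Subgroup.mul_self_mem_of_index_two hidx ⟨y, hxN⟩)
        have hyodd : Odd (orderOf y) := by
          rw [hy, ← MulAut.conj_apply, MulEquiv.orderOf_eq]; exact hHodd x hx
        obtain ⟨j, hj⟩ := hyodd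
        have : y = (y * y) ^ (j + 1) := by
          rw [← sq, ← pow_mul, show 2 * (j + 1) = orderOf y + 1 by omega, pow_succ,
            pow_orderOf_eq_one, one_mul]
        exact this ▸ pow_mem hy2 _
    obtain ⟨c₀, hc₀, hc₀H, hc₀N⟩ := key g₀ hg₀ hg₀1
    -- move the torus to standard position
    set α' := c₀ • α
    have hstab : ∀ x, x ∈ MulAction.stabilizer (Cfsg.Sz F m) α' ↔ c₀⁻¹ * x * c₀ ∈ H := fun x => by
      rw [MulAction.mem_stabilizer_iff, hHdef, MulAction.mem_stabilizer_iff, mul_smul, mul_smul,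
        inv_smul_eq_iff]
    set H' := MulAction.stabilizer (Cfsg.Sz F m) α'
    have hH' : Nat.card H' = Nat.card H := by
      refine Nat.eq_of_mul_eq_mul_right (show 0 < Fintype.card Ω by omega) ?_
      rw [← hΩ α', ← hΩ α]
    rw [← hH', ← card_range_T hF]
    congr 1
    refine congrArg (fun K : Subgroup (Cfsg.Sz F m) => (K : Type _)) ?_
    refine eq_of_covering (fun a ha => (hstab a).2 (hc₀H a ha)) ?_ ?_ ?_ ?_
    · rw [card_range_T]; omega
    · intro x hx hxN
      have := hc₀N _ ((hstab x).1 hx)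
      rw [show c₀ * (c₀⁻¹ * x * c₀) * c₀⁻¹ = x by group] at this
      exact this hxN
    · exact fun g a ha ha1 h => TI_T hF hm g a ha ha1 h
    · intro x hx hx1
      obtain ⟨c, hc, hcH, hcN⟩ := key _ ((hstab x).1 hx) (fun e => hx1 (by
        rw [show x = c₀ * (c₀⁻¹ * x * c₀) * c₀⁻¹ by group, e, mul_one, mul_inv_cancel]))
      refine ⟨c * c₀⁻¹, ?_, fun a ha => (hstab _).2 ?_, fun k hk hkN => ?_⟩
      · rwa [show c * c₀⁻¹ * x * (c * c₀⁻¹)⁻¹ = c * (c₀⁻¹ * x * c₀) * c⁻¹ by group]
      · rw [show c₀⁻¹ * ((c * c₀⁻¹)⁻¹ * a * (c * c₀⁻¹)) * c₀ = c⁻¹ * a * c by group]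
        exact hcH a ha
      · have e : c * c₀⁻¹ * k * (c * c₀⁻¹)⁻¹ = c * (c₀⁻¹ * k * c₀) * c⁻¹ := by group
        rw [e] at hkN ⊢
        exact hcN _ ((hstab k).1 hk) hkN
  refine ⟨?_, hA⟩
  obtain ⟨α⟩ : Nonempty Ω := Fintype.card_pos_iff.1 (by omega)
  have h3 := hΩ α
  rw [hA α, hcardG, mul_comm] at h3
  exact (Nat.eq_of_mul_eq_mul_left (by omega) h3).symm

end Cfsg.Agent.SzFixity69
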